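import Groth.Agent.DeRham.Basic
import Mathlib.LinearAlgebra.ExteriorAlgebra.Grading
import Mathlib.RingTheory.Kaehler.TensorProduct
import Mathlib.RingTheory.IsTensorProduct

/-!
# Exterior powers commute with base change
-/

universe u

open TensorProduct

namespace Groth.Agent.DeRham.ExtBaseChange

variable (A B M : Type u) [CommRing A] [CommRing B] [Algebra A B] [AddCommGroup M] [Module A M]

/-- The comparison map `B ⊗ ⋀^p M → ⋀^p (B ⊗ M)`. -/
noncomputable def cmp (p : ℕ) : B ⊗[A] ↥(⋀[A]^p M) →ₗ[B] ↥(⋀[B]^p (B ⊗[A] M)) :=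
  (DeRham.Basic.mapAlg (B := B) p (TensorProduct.mk A B M 1)).liftBaseChange B

theorem cmp_tmul_ιMulti (p : ℕ) (b : B) (m : Fin p → M) :
    cmp A B M p (b ⊗ₜ exteriorPower.ιMulti A p m) =
      b • exteriorPower.ιMulti B p (fun i => (1 : B) ⊗ₜ[A] m i) := by
  rw [cmp, LinearMap.liftBaseChange_tmul, DeRham.Basic.mapAlg_ιMulti]
  rfl

theorem cmp_surjective (p : ℕ) : Function.Surjective (cmp A B M p) := by
  rw [← LinearMap.range_eq_top, eq_top_iff]
  have hs : Submodule.span B (Set.range (fun m : M => (1 : B) ⊗ₜ[A] m)) = ⊤ := by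
    rw [eq_top_iff]
    rintro x -
    induction x using TensorProduct.induction_on with
    | zero => exact zero_mem _
    | tmul b m =>
      rw [show b ⊗ₜ[A] m = b • ((1 : B) ⊗ₜ[A] m) by rw [TensorProduct.smul_tmul', smul_eq_mul, mul_one]]
      exact Submodule.smul_mem _ _ (Submodule.subset_span ⟨m, rfl⟩)
    | add a b ha hb => exact add_mem ha hb
  refine le_of_eq_of_le (exteriorPower.ιMulti_span_of_span B p _ hs).symm (Submodule.span_le.2 ?_)
  rintro _ ⟨v, hv, rfl⟩
  choose m hm using fun i => hv ⟨i, rfl⟩
  refine ⟨1 ⊗ₜ exteriorPower.ιMulti A p m, ?_⟩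
  rw [cmp_tmul_ιMulti, one_smul, show (fun i => (1 : B) ⊗ₜ[A] m i) = v from funext hm]

theorem cmp_injective (p : ℕ) : Function.Injective (cmp A B M p) := by
  let f : B ⊗[A] M →ₗ[B] B ⊗[A] ExteriorAlgebra A M := (ExteriorAlgebra.ι A).baseChange B
  have hanti : ∀ x y, f x * f y + f y * f x = 0 := by
    intro x y
    induction x using TensorProduct.induction_on with
    | zero => simp
    | tmul a m =>
      induction y using TensorProduct.induction_on with
      | zero => simp
      | tmul b n =>
        simp only [f, LinearMap.baseChange_tmul, Algebra.TensorProduct.tmul_mul_tmul]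
        rw [mul_comm b a, ← TensorProduct.tmul_add, ExteriorAlgebra.ι_add_mul_swap, TensorProduct.tmul_zero]
      | add y z hy hz =>
        rw [map_add, mul_add, add_mul]
        rw [show ∀ a b c d : B ⊗[A] ExteriorAlgebra A M, a + b + (c + d) = (a + c) + (b + d) from
          fun a b c d => add_add_add_comm a b c d, hy, hz, add_zero]
    | add x z hx hz =>
      rw [map_add, mul_add, add_mul]
      rw [show ∀ a b c d : B ⊗[A] ExteriorAlgebra A M, a + b + (c + d) = (a + c) + (b + d) from
          fun a b c d => add_add_add_comm a b c d, hx, hz, add_zero]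
  have hsq : ∀ x, f x * f x = 0 := by
    intro x
    induction x using TensorProduct.induction_on with
    | zero => simp
    | tmul a m =>
      simp only [f, LinearMap.baseChange_tmul, Algebra.TensorProduct.tmul_mul_tmul,
        ExteriorAlgebra.ι_sq_zero, TensorProduct.tmul_zero]
    | add x y hx hy =>
      rw [map_add, mul_add, add_mul, add_mul, hx, hy, zero_add, add_zero, add_comm, hanti]
  let F := ExteriorAlgebra.lift B ⟨f, hsq⟩
  let incl : ↥(⋀[A]^p M) →ₗ[A] ExteriorAlgebra A M := (⋀[A]^p M).subtype
  have hcomm : ∀ z, F (cmp A B M p z : ExteriorAlgebra B (B ⊗[A] M)) = incl.baseChange B z := by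
    intro z
    induction z using TensorProduct.induction_on with
    | zero => simp
    | tmul b x =>
      have hx : x ∈ Submodule.span A (Set.range (exteriorPower.ιMulti A p (M := M))) := by
        rw [exteriorPower.ιMulti_span A p M]; trivial
      induction hx using Submodule.span_induction generalizing b with
      | mem x hx =>
        obtain ⟨m, rfl⟩ := hx
        rw [cmp_tmul_ιMulti, Submodule.coe_smul, map_smul, exteriorPower.ιMulti_apply_coe,
          LinearMap.baseChange_tmul, Submodule.subtype_apply, exteriorPower.ιMulti_apply_coe,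
          ExteriorAlgebra.ιMulti_apply, ExteriorAlgebra.ιMulti_apply, map_list_prod, List.map_ofFn]
        have h : (List.ofFn (⇑F ∘ fun i => ExteriorAlgebra.ι B ((1 : B) ⊗ₜ[A] m i))) =
            (List.ofFn fun i => ExteriorAlgebra.ι A (m i)).map
              (Algebra.TensorProduct.includeRight : ExteriorAlgebra A M →ₐ[A] B ⊗[A] ExteriorAlgebra A M) := by
          rw [List.map_ofFn]
          congr 1
          funext i
          simp only [Function.comp_apply, F, ExteriorAlgebra.lift_ι_apply, f, LinearMap.baseChange_tmul,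
            Algebra.TensorProduct.includeRight_apply]
        rw [h, ← map_list_prod, Algebra.TensorProduct.includeRight_apply, TensorProduct.smul_tmul',
          smul_eq_mul, mul_one]
      | zero => simp
      | add x y _ _ hx hy => simp only [TensorProduct.tmul_add, map_add, Submodule.coe_add, hx, hy]
      | smul a x _ hx => rw [← TensorProduct.smul_tmul]; exact hx _
    | add x y hx hy => simp only [map_add, Submodule.coe_add, hx, hy]
  let r : ExteriorAlgebra A M →ₗ[A] ↥(⋀[A]^p M) :=
    (DirectSum.component A ℕ (fun i => ↥(⋀[A]^i M)) p) ∘ₗ (ExteriorAlgebra.GradedAlgebra.liftι A M).toLinearMap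
  have hr : r ∘ₗ incl = LinearMap.id := by
    refine LinearMap.ext fun x => ?_
    show DirectSum.component A ℕ _ p (ExteriorAlgebra.GradedAlgebra.liftι A M x) = x
    rw [ExteriorAlgebra.GradedAlgebra.liftι_eq]
    exact DFinsupp.single_eq_same
  intro x y hxy
  have h : incl.baseChange B x = incl.baseChange B y := by rw [← hcomm, ← hcomm, hxy]
  have h2 := congrArg (r.baseChange B) h
  rwa [← LinearMap.comp_apply, ← LinearMap.comp_apply, ← LinearMap.baseChange_comp, hr,
    LinearMap.baseChange_id] at h2

/-- Exterior powers commute with base change. -/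
noncomputable def equiv (p : ℕ) : B ⊗[A] ↥(⋀[A]^p M) ≃ₗ[B] ↥(⋀[B]^p (B ⊗[A] M)) :=
  LinearEquiv.ofBijective (cmp A B M p) ⟨cmp_injective A B M p, cmp_surjective A B M p⟩

end Groth.Agent.DeRham.ExtBaseChange
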