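import Groth.Prelude.Def_DeRham

/-!
# Elementary facts about the de Rham rule
-/

universe v u v' u' w

open exteriorPower

namespace Groth.Agent.DeRham.Basic

section Gen

variable {R : Type v} {A M : Type u} [CommRing R] [CommRing A] [Algebra R A]
  [AddCommGroup M] [Module A M] [Module R M]

theorem gen_eq (δ : Derivation R A M) (p : ℕ) (b₀ : A) (b : Fin p → A) :
    DeRham.gen δ p b₀ b = b₀ • ιMulti A p (fun i => δ (b i)) := rfl

theorem smul_gen (δ : Derivation R A M) (p : ℕ) (c b₀ : A) (b : Fin p → A) :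
    c • DeRham.gen δ p b₀ b = DeRham.gen δ p (c * b₀) b :=
  smul_smul c b₀ _

theorem gen_one (δ : Derivation R A M) (p : ℕ) (b : Fin p → A) :
    DeRham.gen δ p 1 b = ιMulti A p (fun i => δ (b i)) :=
  one_smul A _

theorem span_ιMulti_eq_top (δ : Derivation R A M) (hgen : Submodule.span A (Set.range δ) = ⊤)
    (p : ℕ) :
    Submodule.span A (Set.range fun b : Fin p → A => ιMulti A p (fun i => δ (b i))) = ⊤ := by
  rw [eq_top_iff, ← ιMulti_span_of_span A p M hgen]
  refine Submodule.span_mono ?_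
  rintro _ ⟨a, ha, rfl⟩
  choose b hb using fun i => ha ⟨i, rfl⟩
  exact ⟨b, by simp only [hb]⟩

/-- Induction on the generators `b₀ · δb₁ ∧ … ∧ δb_p`. -/
theorem gen_induction (δ : Derivation R A M) (hgen : Submodule.span A (Set.range δ) = ⊤) {p : ℕ}
    {P : ↥(⋀[A]^p M) → Prop} (zero : P 0) (add : ∀ x y, P x → P y → P (x + y))
    (gen : ∀ (b₀ : A) (b : Fin p → A), P (DeRham.gen δ p b₀ b)) (x : ↥(⋀[A]^p M)) : P x := by
  suffices h : ∀ c : A, P (c • x) by simpa using h 1
  have hx : x ∈ Submodule.span A (Set.range fun b : Fin p → A => ιMulti A p (fun i => δ (b i))) := by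
    rw [span_ιMulti_eq_top δ hgen p]; trivial
  induction hx using Submodule.span_induction with
  | mem y hy => obtain ⟨b, rfl⟩ := hy; exact fun c => gen c b
  | zero => intro c; simpa using zero
  | add y z _ _ hy hz => intro c; rw [smul_add]; exact add _ _ (hy c) (hz c)
  | smul a y _ hy => intro c; rw [smul_smul]; exact hy _

/-- Additive maps out of `⋀^p M` agreeing on the generators are equal. -/
theorem gen_hom_ext (δ : Derivation R A M) (hgen : Submodule.span A (Set.range δ) = ⊤) {p : ℕ}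
    {N : Type w} [AddCommMonoid N] {f g : ↥(⋀[A]^p M) →+ N}
    (h : ∀ (b₀ : A) (b : Fin p → A), f (DeRham.gen δ p b₀ b) = g (DeRham.gen δ p b₀ b)) :
    f = g :=
  AddMonoidHom.ext fun x =>
    gen_induction δ hgen (P := fun x => f x = g x) (by simp) (fun x y hx hy => by simp [hx, hy]) h x

theorem span_range_compDer {M' : Type u} [AddCommGroup M'] [Module A M'] [Module R M']
    [IsScalarTower R A M] [IsScalarTower R A M']
    (δ : Derivation R A M) (hgen : Submodule.span A (Set.range δ) = ⊤) (π : M →ₗ[A] M')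
    (hπ : Function.Surjective π) : Submodule.span A (Set.range (π.compDer δ)) = ⊤ := by
  rw [← LinearMap.range_eq_top.2 hπ, LinearMap.range_eq_map, ← hgen, Submodule.map_span,
    ← Set.range_comp]
  rfl

end Gen

section Rule

variable {R : Type v} {A M : Type u} [CommRing R] [CommRing A] [Algebra R A]
  [AddCommGroup M] [Module A M] [Module R M] [IsScalarTower R A M]
  {δ : Derivation R A M} {d : ∀ p : ℕ, ↥(⋀[A]^p M) →ₗ[R] ↥(⋀[A]^(p + 1) M)}

theorem d_gen (hd : DeRham.IsRule δ d) (p : ℕ) (b₀ : A) (b : Fin p → A) :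
    d p (DeRham.gen δ p b₀ b) = DeRham.gen δ (p + 1) 1 (Fin.cons b₀ b) := by
  rw [hd p b₀ b, gen_one]
  congr 1
  ext i
  refine Fin.cases ?_ ?_ i <;> simp

theorem gen_cons_one (p : ℕ) (b₀ : A) (b : Fin p → A) :
    DeRham.gen δ (p + 1) b₀ (Fin.cons 1 b) = 0 := by
  rw [gen_eq, (ιMulti A (p + 1)).map_coord_zero (0 : Fin (p + 1)) (by simp), smul_zero]

/-- The rule forces `d ∘ d = 0` when `δ A` generates. -/
theorem isDiff_of_isRule (hgen : Submodule.span A (Set.range δ) = ⊤)
    (hd : DeRham.IsRule δ d) : DeRham.IsDiff δ d := by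
  refine ⟨hd, fun p => LinearMap.ext fun x => ?_⟩
  rw [LinearMap.comp_apply, LinearMap.zero_apply]
  refine gen_induction δ hgen (P := fun x => d (p + 1) (d p x) = 0) ?_ ?_ ?_ x
  · simp
  · intro y z hy hz; simp [hy, hz]
  · intro b₀ b; rw [d_gen hd, d_gen hd]; exact gen_cons_one _ _ _

/-- The rule determines `d` when `δ A` generates. -/
theorem rule_unique {d' : ∀ p : ℕ, ↥(⋀[A]^p M) →ₗ[R] ↥(⋀[A]^(p + 1) M)}
    (hgen : Submodule.span A (Set.range δ) = ⊤) (hd : DeRham.IsRule δ d)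
    (hd' : DeRham.IsRule δ d') : d = d' :=
  funext fun p => LinearMap.ext fun x =>
    gen_induction δ hgen (P := fun x => d p x = d' p x) (by simp)
      (fun y z hy hz => by simp [hy, hz]) (fun b₀ b => by rw [hd p b₀ b, hd' p b₀ b]) x

/-- `d` commutes with an induced map of complexes. -/
theorem cxMap_comm {R' : Type v'} {A' M' : Type u'} [CommRing R'] [CommRing A'] [Algebra R' A']
    [AddCommGroup M'] [Module A' M'] [Module R' M'] [IsScalarTower R' A' M']
    {δ' : Derivation R' A' M'} {d' : ∀ p : ℕ, ↥(⋀[A']^p M') →ₗ[R'] ↥(⋀[A']^(p + 1) M')}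
    (g : A →+* A') {ψ : ∀ p : ℕ, ↥(⋀[A]^p M) →+ ↥(⋀[A']^p M')}
    (hgen : Submodule.span A (Set.range δ) = ⊤) (hd : DeRham.IsRule δ d)
    (hd' : DeRham.IsRule δ' d') (hψ : DeRham.IsCxMap δ δ' g ψ) (p : ℕ) (x : ↥(⋀[A]^p M)) :
    ψ (p + 1) (d p x) = d' p (ψ p x) := by
  refine gen_induction δ hgen (P := fun x => ψ (p + 1) (d p x) = d' p (ψ p x)) ?_ ?_ ?_ x
  · simp
  · intro y z hy hz; simp [hy, hz]
  · intro b₀ b
    rw [d_gen hd, hψ, hψ, d_gen hd', map_one]
    congr 1
    ext i
    refine Fin.cases ?_ ?_ i <;> simp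

theorem cxMap_unique {R' : Type v'} {A' M' : Type u'} [CommRing R'] [CommRing A'] [Algebra R' A']
    [AddCommGroup M'] [Module A' M'] [Module R' M']
    {δ' : Derivation R' A' M'} (g : A →+* A') {ψ ψ' : ∀ p : ℕ, ↥(⋀[A]^p M) →+ ↥(⋀[A']^p M')}
    (hgen : Submodule.span A (Set.range δ) = ⊤)
    (hψ : DeRham.IsCxMap δ δ' g ψ) (hψ' : DeRham.IsCxMap δ δ' g ψ') : ψ = ψ' :=
  funext fun p => gen_hom_ext δ hgen fun b₀ b => by rw [hψ p b₀ b, hψ' p b₀ b]

end Rule

section Semilinear

variable {A : Type u} {B : Type u'} {M : Type v} {N : Type v'} [CommRing A] [CommRing B] [Algebra A B]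
  [AddCommGroup M] [Module A M] [AddCommGroup N] [Module A N] [Module B N] [IsScalarTower A B N]

/-- The map `⋀^p_A M → ⋀^p_B N` induced by an `A`-linear `f : M → N`. -/
noncomputable def mapAlg (p : ℕ) (f : M →ₗ[A] N) :
    ↥(⋀[A]^p M) →ₗ[A] ↥(⋀[B]^p N) :=
  alternatingMapLinearEquiv
    { toMultilinearMap := ((ιMulti B p).toMultilinearMap.restrictScalars A).compLinearMap fun _ => f
      map_eq_zero_of_eq' := fun v i j h hij =>
        (ιMulti B p).map_eq_zero_of_eq (fun k => f (v k)) (congrArg f h) hij }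

@[simp] theorem mapAlg_ιMulti (p : ℕ) (f : M →ₗ[A] N) (m : Fin p → M) :
    mapAlg (B := B) p f (ιMulti A p m) = ιMulti B p (fun i => f (m i)) := by
  unfold mapAlg; rw [alternatingMapLinearEquiv_apply_ιMulti]; rfl

end Semilinear

/-- The map of de Rham complexes of a square of rings. -/
noncomputable def kaehlerMap (R S A B : Type u) [CommRing R] [CommRing S] [CommRing A] [CommRing B]
    [Algebra R S] [Algebra R A] [Algebra R B] [Algebra A B] [Algebra S B]
    [IsScalarTower R A B] [IsScalarTower R S B] (p : ℕ) :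
    ↥(⋀[A]^p (Ω[A⁄R])) →ₗ[A] ↥(⋀[B]^p (Ω[B⁄S])) :=
  mapAlg p (KaehlerDifferential.map R S A B)

theorem kaehlerMap_isCxMap (R S A B : Type u) [CommRing R] [CommRing S] [CommRing A] [CommRing B]
    [Algebra R S] [Algebra R A] [Algebra R B] [Algebra A B] [Algebra S B]
    [IsScalarTower R A B] [IsScalarTower R S B] :
    DeRham.IsCxMap (KaehlerDifferential.D R A) (KaehlerDifferential.D S B) (algebraMap A B)
      (fun p => (kaehlerMap R S A B p).toAddMonoidHom) := by
  intro p b₀ b
  simp only [LinearMap.toAddMonoidHom_coe, gen_eq, map_smul, kaehlerMap, mapAlg_ιMulti,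
    KaehlerDifferential.map_D, algebraMap_smul]

end Groth.Agent.DeRham.Basic
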