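import Groth.Agent.DeRham.Basic
import Mathlib.LinearAlgebra.ExteriorPower.Basis
import Mathlib.LinearAlgebra.CliffordAlgebra.Contraction
import Mathlib.RingTheory.MvPowerSeries.Derivative

/-!
# Cartan homotopy for the Euler field on a formal power series ring
-/

universe u

open exteriorPower

namespace Groth.Agent.DeRham.FormalPoincare

section Contract

variable {A M : Type u} [CommRing A] [AddCommGroup M] [Module A M]

/-- The contraction against `φ` on the exterior algebra. -/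
noncomputable def cAlg (φ : Module.Dual A M) : ExteriorAlgebra A M →ₗ[A] ExteriorAlgebra A M :=
  CliffordAlgebra.contractLeft (Q := (0 : QuadraticForm A M)) φ

theorem cAlg_ι_mul (φ : Module.Dual A M) (v : M) (x : ExteriorAlgebra A M) :
    cAlg φ (ExteriorAlgebra.ι A v * x) = φ v • x - ExteriorAlgebra.ι A v * cAlg φ x :=
  CliffordAlgebra.contractLeft_ι_mul _ v x

theorem ι_mul_mem (p : ℕ) (v : M) {x : ExteriorAlgebra A M} (hx : x ∈ ⋀[A]^p M) :
    ExteriorAlgebra.ι A v * x ∈ ⋀[A]^(p + 1) M := by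
  show _ ∈ LinearMap.range (ExteriorAlgebra.ι A) ^ (p + 1)
  rw [pow_succ']
  exact Submodule.mul_mem_mul (LinearMap.mem_range_self _ v) hx

theorem cAlg_mem (φ : Module.Dual A M) : ∀ (p : ℕ) {x : ExteriorAlgebra A M},
    x ∈ ⋀[A]^(p + 1) M → cAlg φ x ∈ ⋀[A]^p M := by
  intro p
  induction p with
  | zero =>
    intro x hx
    rw [show (⋀[A]^(0 + 1) M : Submodule A (ExteriorAlgebra A M)) = LinearMap.range (ExteriorAlgebra.ι A) from
      pow_one _] at hx
    obtain ⟨v, rfl⟩ := hx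
    show _ ∈ LinearMap.range (ExteriorAlgebra.ι A) ^ 0
    rw [pow_zero, cAlg, show ExteriorAlgebra.ι A v = CliffordAlgebra.ι (0 : QuadraticForm A M) v from rfl,
      CliffordAlgebra.contractLeft_ι, Submodule.one_eq_range]
    exact LinearMap.mem_range_self (Algebra.linearMap A _) _
  | succ p ih =>
    intro x hx
    rw [show (⋀[A]^(p + 1 + 1) M : Submodule A (ExteriorAlgebra A M)) =
      LinearMap.range (ExteriorAlgebra.ι A) * LinearMap.range (ExteriorAlgebra.ι A) ^ (p + 1) from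
        pow_succ' _ _] at hx
    refine Submodule.mul_induction_on hx (fun a ha b hb => ?_) fun a b ha hb => ?_
    · obtain ⟨v, rfl⟩ := ha
      rw [cAlg_ι_mul]
      exact (⋀[A]^(p + 1) M).sub_mem ((⋀[A]^(p + 1) M).smul_mem _ hb) (ι_mul_mem p v (ih hb))
    · rw [map_add]; exact Submodule.add_mem _ ha hb

/-- Contraction on exterior powers. -/
noncomputable def ctr (φ : Module.Dual A M) (p : ℕ) : ↥(⋀[A]^(p + 1) M) →ₗ[A] ↥(⋀[A]^p M) :=
  ((cAlg φ).comp (⋀[A]^(p + 1) M).subtype).codRestrict _ fun x => cAlg_mem φ p x.2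

/-- Left wedge. -/
noncomputable def wedge (v : M) (p : ℕ) : ↥(⋀[A]^p M) →ₗ[A] ↥(⋀[A]^(p + 1) M) :=
  ((LinearMap.mulLeft A (ExteriorAlgebra.ι A v)).comp (⋀[A]^p M).subtype).codRestrict _
    fun x => ι_mul_mem p v x.2

theorem wedge_ιMulti (v : M) (p : ℕ) (b : Fin p → M) :
    wedge v p (ιMulti A p b) = ιMulti A (p + 1) (Fin.cons v b) := by
  refine Subtype.ext ?_
  show ExteriorAlgebra.ι A v * ExteriorAlgebra.ιMulti A p b = ExteriorAlgebra.ιMulti A (p + 1) _
  rw [ExteriorAlgebra.ιMulti_succ_apply]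
  rfl

theorem wedge_add (v w : M) (p : ℕ) (x : ↥(⋀[A]^p M)) :
    wedge (v + w) p x = wedge v p x + wedge w p x :=
  Subtype.ext (by
    show ExteriorAlgebra.ι A (v + w) * x.1 = ExteriorAlgebra.ι A v * x.1 + ExteriorAlgebra.ι A w * x.1
    rw [map_add, add_mul])

theorem wedge_smul (a : A) (v : M) (p : ℕ) (x : ↥(⋀[A]^p M)) :
    wedge (a • v) p x = a • wedge v p x :=
  Subtype.ext (by
    show ExteriorAlgebra.ι A (a • v) * x.1 = a • (ExteriorAlgebra.ι A v * x.1)
    rw [map_smul, smul_mul_assoc])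

theorem wedge_anticomm (v w : M) (p : ℕ) (x : ↥(⋀[A]^p M)) :
    wedge v (p + 1) (wedge w p x) = -wedge w (p + 1) (wedge v p x) := by
  refine Subtype.ext ?_
  show ExteriorAlgebra.ι A v * (ExteriorAlgebra.ι A w * x.1) = -(ExteriorAlgebra.ι A w * (ExteriorAlgebra.ι A v * x.1))
  rw [← mul_assoc, ← mul_assoc, ← neg_mul, ← eq_neg_of_add_eq_zero_left (ExteriorAlgebra.ι_add_mul_swap v w)]

theorem ctr_wedge (φ : Module.Dual A M) (v : M) (p : ℕ) (x : ↥(⋀[A]^(p + 1) M)) :
    ctr φ (p + 1) (wedge v (p + 1) x) = φ v • x - wedge v p (ctr φ p x) :=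
  Subtype.ext (cAlg_ι_mul φ v x.1)

theorem ctr_wedge_zero (φ : Module.Dual A M) (v : M) (x : ↥(⋀[A]^0 M)) :
    ctr φ 0 (wedge v 0 x) = φ v • x := by
  refine Subtype.ext ?_
  show cAlg φ (ExteriorAlgebra.ι A v * x.1) = φ v • x.1
  obtain ⟨r, hr⟩ : x.1 ∈ LinearMap.range (Algebra.linearMap A (ExteriorAlgebra A M)) := by
    have hx := x.2
    revert hx
    generalize x.1 = y
    intro hy
    rw [show (⋀[A]^0 M : Submodule A (ExteriorAlgebra A M)) = 1 from pow_zero _, Submodule.one_eq_range] at hy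
    exact hy
  rw [cAlg_ι_mul, ← hr, Algebra.linearMap_apply]
  have : cAlg φ (algebraMap A _ r) = 0 := CliffordAlgebra.contractLeft_algebraMap (0 : QuadraticForm A M) φ r
  rw [this, mul_zero, sub_zero]

end Contract

section Euler

variable {k σ : Type u} [Field k] [Fintype σ]

variable {δ : Derivation k (MvPowerSeries σ k) (σ → (MvPowerSeries σ k))}
  {d : ∀ p : ℕ, ↥(⋀[(MvPowerSeries σ k)]^p (σ → (MvPowerSeries σ k))) →ₗ[k] ↥(⋀[(MvPowerSeries σ k)]^(p + 1) (σ → (MvPowerSeries σ k)))}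

theorem d_smul (hgen : Submodule.span (MvPowerSeries σ k) (Set.range δ) = ⊤) (hd : _root_.DeRham.IsRule δ d) (p : ℕ) (f : (MvPowerSeries σ k))
    (y : ↥(⋀[(MvPowerSeries σ k)]^p (σ → (MvPowerSeries σ k)))) : d p (f • y) = wedge (δ f) p y + f • d p y := by
  refine Basic.gen_induction δ hgen (P := fun y => d p (f • y) = wedge (δ f) p y + f • d p y) ?_ ?_ ?_ y
  · simp
  · intro a b ha hb; rw [smul_add, map_add, ha, hb, map_add, map_add, smul_add]; abel
  · intro b₀ b
    rw [Basic.smul_gen, hd, hd, Basic.gen_eq, map_smul, wedge_ιMulti, δ.leibniz,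
      ← wedge_ιMulti, ← wedge_ιMulti, ← wedge_ιMulti, wedge_add, wedge_smul, wedge_smul]
    exact add_comm _ _

theorem d_wedge (hgen : Submodule.span (MvPowerSeries σ k) (Set.range δ) = ⊤) (hd : _root_.DeRham.IsRule δ d) (p : ℕ) (f : (MvPowerSeries σ k))
    (y : ↥(⋀[(MvPowerSeries σ k)]^p (σ → (MvPowerSeries σ k)))) : d (p + 1) (wedge (δ f) p y) = -wedge (δ f) (p + 1) (d p y) := by
  refine Basic.gen_induction δ hgen
    (P := fun y => d (p + 1) (wedge (δ f) p y) = -wedge (δ f) (p + 1) (d p y)) ?_ ?_ ?_ y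
  · simp
  · intro a b ha hb; simp only [map_add, ha, hb]; abel
  · intro b₀ b
    have e : wedge (δ f) p (_root_.DeRham.gen δ p b₀ b) = _root_.DeRham.gen δ (p + 1) b₀ (Fin.cons f b) := by
      rw [Basic.gen_eq, map_smul, wedge_ιMulti, Basic.gen_eq]
      congr 2
      ext i
      refine Fin.cases ?_ ?_ i <;> simp
    rw [e, hd, hd, ← wedge_ιMulti, ← wedge_ιMulti,
      show (fun i => δ ((Fin.cons f b : Fin (p + 1) → (MvPowerSeries σ k)) i)) = Fin.cons (δ f) (fun i => δ (b i)) from by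
        ext i : 1; refine Fin.cases ?_ ?_ i <;> simp,
      ← wedge_ιMulti, wedge_anticomm]

/-- The pairing with the Euler field. -/
noncomputable def euler : Module.Dual (MvPowerSeries σ k) (σ → (MvPowerSeries σ k)) :=
  ∑ i, (MvPowerSeries.X i : (MvPowerSeries σ k)) • LinearMap.proj i

theorem euler_apply (v : σ → (MvPowerSeries σ k)) : euler (k := k) v = ∑ i, MvPowerSeries.X i * v i := by
  simp [euler]

theorem coeff_X_mul (i : σ) (g : (MvPowerSeries σ k)) (a : σ →₀ ℕ) [Decidable (Finsupp.single i 1 ≤ a)] :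
    MvPowerSeries.coeff a (MvPowerSeries.X i * g) =
      if Finsupp.single i 1 ≤ a then MvPowerSeries.coeff (a - Finsupp.single i 1) g else 0 := by
  classical
  rw [MvPowerSeries.X_def, MvPowerSeries.coeff_monomial_mul]
  simp

theorem coeff_euler (hδ : ∀ (f : (MvPowerSeries σ k)) (i : σ), δ f i = MvPowerSeries.pderiv k i f) (f : (MvPowerSeries σ k)) (a : σ →₀ ℕ) :
    MvPowerSeries.coeff a (euler (δ f)) = (a.degree : k) * MvPowerSeries.coeff a f := by
  classical
  rw [euler_apply, map_sum, Finsupp.degree_eq_sum, Nat.cast_sum, Finset.sum_mul]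
  refine Finset.sum_congr rfl fun i _ => ?_
  rw [hδ, coeff_X_mul]
  by_cases h : Finsupp.single i 1 ≤ a
  · rw [if_pos h, MvPowerSeries.coeff_pderiv, tsub_add_cancel_of_le h, mul_comm]
    congr 1
    have h1 : 1 ≤ a i := by simpa using h i
    simp [Nat.cast_sub h1]
  · rw [if_neg h]
    have : a i = 0 := by
      by_contra hne
      exact h (by simp only [Finsupp.single_le_iff]; omega)
    simp [this]

/-- `f ↦ E f + p f`. -/
noncomputable def scal (δ : Derivation k (MvPowerSeries σ k) (σ → (MvPowerSeries σ k))) (p : ℕ) (f : (MvPowerSeries σ k)) : (MvPowerSeries σ k) :=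
  euler (δ f) + (p : (MvPowerSeries σ k)) * f

theorem coeff_scal (hδ : ∀ (f : (MvPowerSeries σ k)) (i : σ), δ f i = MvPowerSeries.pderiv k i f) (p : ℕ) (f : (MvPowerSeries σ k)) (a : σ →₀ ℕ) :
    MvPowerSeries.coeff a (scal δ p f) = ((a.degree + p : ℕ) : k) * MvPowerSeries.coeff a f := by
  rw [scal, map_add, coeff_euler hδ, ← map_natCast (MvPowerSeries.C (σ := σ) (R := k)) p,
    MvPowerSeries.coeff_C_mul, Nat.cast_add, add_mul]

theorem scal_surjective [CharZero k] (hδ : ∀ (f : (MvPowerSeries σ k)) (i : σ), δ f i = MvPowerSeries.pderiv k i f) (p : ℕ)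
    (g : (MvPowerSeries σ k)) : ∃ f, scal δ (p + 1) f = g := by
  refine ⟨fun a => ((a.degree + (p + 1) : ℕ) : k)⁻¹ * MvPowerSeries.coeff a g, MvPowerSeries.ext fun a => ?_⟩
  refine (coeff_scal hδ (p + 1) _ a).trans ?_
  change ((a.degree + (p + 1) : ℕ) : k) * (((a.degree + (p + 1) : ℕ) : k)⁻¹ * MvPowerSeries.coeff a g) = _
  rw [← mul_assoc, mul_inv_cancel₀ (Nat.cast_ne_zero.2 (by omega)), one_mul]

theorem scal_eq_zero [CharZero k] (hδ : ∀ (f : (MvPowerSeries σ k)) (i : σ), δ f i = MvPowerSeries.pderiv k i f) (p : ℕ)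
    (f : (MvPowerSeries σ k)) (h : scal δ (p + 1) f = 0) : f = 0 := by
  refine MvPowerSeries.ext fun a => ?_
  have h' := congrArg (MvPowerSeries.coeff a) h
  rw [coeff_scal hδ, map_zero, mul_eq_zero] at h'
  rw [map_zero]
  exact h'.resolve_left (Nat.cast_ne_zero.2 (by omega))

/-- The wedge of coordinate differentials. -/
noncomputable def coordForm (p : ℕ) (s : Fin p → σ) : ↥(⋀[(MvPowerSeries σ k)]^p (σ → (MvPowerSeries σ k))) := by
  classical exact ιMulti (MvPowerSeries σ k) p fun i => (Pi.single (s i) (1 : (MvPowerSeries σ k)) : σ → (MvPowerSeries σ k))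

theorem δ_X [DecidableEq σ] (hδ : ∀ (f : (MvPowerSeries σ k)) (i : σ), δ f i = MvPowerSeries.pderiv k i f) (i : σ) :
    δ (MvPowerSeries.X i) = (Pi.single i (1 : (MvPowerSeries σ k)) : σ → (MvPowerSeries σ k)) := by
  ext j : 1
  rw [hδ, MvPowerSeries.pderiv_X]
  rcases eq_or_ne j i with rfl | h
  · simp
  · simp [h, Ne.symm h]

theorem gen_coord (hδ : ∀ (f : (MvPowerSeries σ k)) (i : σ), δ f i = MvPowerSeries.pderiv k i f) (p : ℕ) (s : Fin p → σ)
    (f : (MvPowerSeries σ k)) : f • coordForm (k := k) (σ := σ) p s = _root_.DeRham.gen δ p f fun i => MvPowerSeries.X (s i) := by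
  classical
  rw [Basic.gen_eq, coordForm]
  congr 2
  ext i : 1
  exact (δ_X hδ (s i)).symm

theorem coordForm_cons (hδ : ∀ (f : (MvPowerSeries σ k)) (i : σ), δ f i = MvPowerSeries.pderiv k i f) (p : ℕ)
    (s : Fin (p + 1) → σ) :
    coordForm (k := k) (σ := σ) (p + 1) s = wedge (δ (MvPowerSeries.X (s 0))) p (coordForm (k := k) (σ := σ) p fun i => s i.succ) := by
  classical
  rw [coordForm, coordForm, wedge_ιMulti, δ_X hδ]
  congr 1
  ext i : 1
  refine Fin.cases ?_ ?_ i <;> simp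

theorem d_coord (hδ : ∀ (f : (MvPowerSeries σ k)) (i : σ), δ f i = MvPowerSeries.pderiv k i f)
    (hd : _root_.DeRham.IsRule δ d) (p : ℕ) (s : Fin p → σ) : d p (coordForm (k := k) (σ := σ) p s) = 0 := by
  rw [← one_smul (MvPowerSeries σ k) (coordForm (k := k) (σ := σ) p s), gen_coord hδ, hd, ← wedge_ιMulti, Derivation.map_one_eq_zero]
  exact Subtype.ext (by simp [wedge])

theorem euler_δ_X (hδ : ∀ (f : (MvPowerSeries σ k)) (i : σ), δ f i = MvPowerSeries.pderiv k i f) (i : σ) :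
    euler (δ (MvPowerSeries.X i)) = (MvPowerSeries.X i : (MvPowerSeries σ k)) := by
  classical
  rw [δ_X hδ, euler_apply, Finset.sum_eq_single i]
  · simp
  · intro j _ hj; simp [hj]
  · simp

theorem d_ctr_coord (hδ : ∀ (f : (MvPowerSeries σ k)) (i : σ), δ f i = MvPowerSeries.pderiv k i f)
    (hgen : Submodule.span (MvPowerSeries σ k) (Set.range δ) = ⊤) (hd : _root_.DeRham.IsRule δ d) :
    ∀ (p : ℕ) (s : Fin (p + 1) → σ),
      d p (ctr (euler (k := k) (σ := σ)) p (coordForm (k := k) (σ := σ) (p + 1) s)) = ((p + 1 : ℕ) : (MvPowerSeries σ k)) • coordForm (k := k) (σ := σ) (p + 1) s := by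
  intro p
  induction p with
  | zero =>
    intro s
    rw [coordForm_cons hδ, ctr_wedge_zero, euler_δ_X hδ, d_smul hgen hd, d_coord hδ hd, smul_zero, add_zero]
    simp
  | succ p ih =>
    intro s
    rw [coordForm_cons hδ (p + 1), ctr_wedge, euler_δ_X hδ, map_sub, d_smul hgen hd, d_coord hδ hd,
      smul_zero, add_zero, d_wedge hgen hd, ih, map_smul, sub_neg_eq_add, Nat.cast_succ (p + 1),
      add_smul, one_smul]
    exact add_comm _ _

theorem homotopy_coord (hδ : ∀ (f : (MvPowerSeries σ k)) (i : σ), δ f i = MvPowerSeries.pderiv k i f)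
    (hgen : Submodule.span (MvPowerSeries σ k) (Set.range δ) = ⊤) (hd : _root_.DeRham.IsRule δ d) (p : ℕ) (f : (MvPowerSeries σ k))
    (s : Fin (p + 1) → σ) :
    d p (ctr (euler (k := k) (σ := σ)) p (f • coordForm (k := k) (σ := σ) (p + 1) s)) + ctr (euler (k := k) (σ := σ)) (p + 1) (d (p + 1) (f • coordForm (k := k) (σ := σ) (p + 1) s)) =
      scal δ (p + 1) f • coordForm (k := k) (σ := σ) (p + 1) s := by
  rw [map_smul, d_smul hgen hd, d_ctr_coord hδ hgen hd, d_smul hgen hd, d_coord hδ hd, smul_zero,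
    add_zero, ctr_wedge, smul_smul, scal, add_smul, mul_comm f]
  abel

theorem span_coord [DecidableEq σ] (p : ℕ) :
    Submodule.span (MvPowerSeries σ k) (Set.range (coordForm (k := k) (σ := σ) p)) = ⊤ := by
  rw [eq_top_iff, ← ιMulti_span_of_span (R := (MvPowerSeries σ k)) p (σ → (MvPowerSeries σ k)) (Pi.basisFun (MvPowerSeries σ k) σ).span_eq]
  refine Submodule.span_mono ?_
  rintro _ ⟨a, ha, rfl⟩
  choose s hs using fun i => ha ⟨i, rfl⟩
  refine ⟨s, ?_⟩
  rw [coordForm]
  congr 1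
  ext i : 1
  rw [← hs i, Pi.basisFun_apply]
  congr!

theorem exists_homotopy_eq [CharZero k] (hδ : ∀ (f : (MvPowerSeries σ k)) (i : σ), δ f i = MvPowerSeries.pderiv k i f)
    (hgen : Submodule.span (MvPowerSeries σ k) (Set.range δ) = ⊤) (hd : _root_.DeRham.IsRule δ d) (p : ℕ)
    (ω : ↥(⋀[(MvPowerSeries σ k)]^(p + 1) (σ → (MvPowerSeries σ k)))) :
    ∃ η, d p (ctr (euler (k := k) (σ := σ)) p η) + ctr (euler (k := k) (σ := σ)) (p + 1) (d (p + 1) η) = ω := by
  classical
  have hω : ω ∈ Submodule.span (MvPowerSeries σ k) (Set.range (coordForm (k := k) (σ := σ) (p + 1))) := by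
    rw [span_coord]; trivial
  obtain ⟨c, rfl⟩ := Finsupp.mem_span_range_iff_exists_finsupp.1 hω
  choose g hg using fun s => scal_surjective hδ p (c s)
  refine ⟨∑ s ∈ c.support, g s • coordForm (k := k) (σ := σ) (p + 1) s, ?_⟩
  rw [map_sum, map_sum, map_sum, map_sum, ← Finset.sum_add_distrib]
  refine Finset.sum_congr rfl fun s _ => ?_
  rw [homotopy_coord hδ hgen hd, hg]

theorem homotopy_injective [CharZero k] (hδ : ∀ (f : (MvPowerSeries σ k)) (i : σ), δ f i = MvPowerSeries.pderiv k i f)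
    (hgen : Submodule.span (MvPowerSeries σ k) (Set.range δ) = ⊤) (hd : _root_.DeRham.IsRule δ d) (p : ℕ)
    (η : ↥(⋀[(MvPowerSeries σ k)]^(p + 1) (σ → (MvPowerSeries σ k))))
    (h : d p (ctr (euler (k := k) (σ := σ)) p η) + ctr (euler (k := k) (σ := σ)) (p + 1) (d (p + 1) η) = 0) : η = 0 := by
  classical
  let : LinearOrder σ := LinearOrder.lift' (Fintype.equivFin σ) (Fintype.equivFin σ).injective
  let B := (Pi.basisFun (MvPowerSeries σ k) σ).exteriorPower (n := p + 1)
  have hB : ∀ S, ∃ s : Fin (p + 1) → σ, B S = coordForm (k := k) (σ := σ) (p + 1) s := fun S => by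
    refine ⟨Set.powersetCard.ofFinEmbEquiv.symm S, ?_⟩
    simp only [B, exteriorPower.basis_apply]
    refine Subtype.ext ?_
    simp only [ιMulti_family_apply_coe, coordForm, ιMulti_apply_coe, ExteriorAlgebra.ιMulti_family,
      Pi.basisFun_apply, Function.comp_def]
    congr!
  choose s hs using hB
  have key : d p (ctr (euler (k := k) (σ := σ)) p η) + ctr (euler (k := k) (σ := σ)) (p + 1) (d (p + 1) η) =
      ∑ S, scal δ (p + 1) (B.repr η S) • B S := by
    conv_lhs => rw [← B.sum_repr η]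
    rw [map_sum, map_sum, map_sum, map_sum, ← Finset.sum_add_distrib]
    refine Finset.sum_congr rfl fun S _ => ?_
    rw [hs, homotopy_coord hδ hgen hd]
  rw [key] at h
  rw [← B.sum_repr η]
  refine Finset.sum_eq_zero fun S _ => ?_
  rw [scal_eq_zero hδ p _ (Fintype.linearIndependent_iff.1 B.linearIndependent _ h S), zero_smul]

theorem cocycles_le [CharZero k] (hδ : ∀ (f : (MvPowerSeries σ k)) (i : σ), δ f i = MvPowerSeries.pderiv k i f)
    (hgen : Submodule.span (MvPowerSeries σ k) (Set.range δ) = ⊤) (hd : _root_.DeRham.IsDiff δ d) (p : ℕ) :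
    _root_.DeRham.cocycles d (p + 1) ≤ _root_.DeRham.coboundaries d (p + 1) := by
  intro ω hω
  change d (p + 1) ω = 0 at hω
  obtain ⟨η, rfl⟩ := exists_homotopy_eq hδ hgen hd.1 p ω
  have hdd : ∀ q x, d (q + 1) (d q x) = 0 := fun q x => LinearMap.congr_fun (hd.2 q) x
  have h2 : d (p + 1) η = 0 := by
    refine homotopy_injective hδ hgen hd.1 (p + 1) _ ?_
    rw [hdd, map_zero, add_zero]
    rwa [map_add, hdd, zero_add] at hω
  refine ⟨ctr (euler (k := k) (σ := σ)) p η, ?_⟩
  rw [h2, map_zero, add_zero]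

end Euler

end Groth.Agent.DeRham.FormalPoincare
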