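import Mathlib.RingTheory.Kaehler.Basic
import Mathlib.Algebra.Polynomial.Laurent
import Mathlib.Tactic.Abel
import Mathlib.Tactic.Ring

/-!
# Differentials of Laurent polynomials
-/

universe u

open LaurentPolynomial

namespace Groth.Agent.DeRham.Laurent

variable (k : Type u) [CommRing k]

/-- The Euler derivation `t d/dt` as a linear map. -/
noncomputable def eulerₗ : k[T;T⁻¹] →ₗ[k] k[T;T⁻¹] :=
  (AddMonoidAlgebra.coeffLinearEquiv k).symm.toLinearMap ∘ₗ
    Finsupp.lsum k (fun n : ℤ => (n : k) • Finsupp.lsingle n) ∘ₗ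
      (AddMonoidAlgebra.coeffLinearEquiv k).toLinearMap

theorem eulerₗ_single (n : ℤ) (a : k) :
    eulerₗ k (AddMonoidAlgebra.single n a) = AddMonoidAlgebra.single n ((n : k) * a) := by
  apply AddMonoidAlgebra.coeff_injective
  simp [eulerₗ, AddMonoidAlgebra.coeff_single, -LaurentPolynomial.single_eq_C_mul_T]

theorem eulerₗ_C_mul_T (n : ℤ) (a : k) : eulerₗ k (C a * T n) = C ((n : k) * a) * T n := by
  rw [← single_eq_C_mul_T, ← single_eq_C_mul_T, eulerₗ_single]

theorem coeff_eulerₗ (f : k[T;T⁻¹]) (m : ℤ) : (eulerₗ k f).coeff m = (m : k) * f.coeff m := by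
  classical
  induction f using LaurentPolynomial.induction_on' with
  | add p q hp hq => simp [hp, hq, mul_add]
  | C_mul_T n a =>
    rw [← single_eq_C_mul_T, eulerₗ_single, AddMonoidAlgebra.coeff_single, AddMonoidAlgebra.coeff_single,
      Finsupp.single_apply, Finsupp.single_apply]
    split_ifs with h
    · subst h; rfl
    · rw [mul_zero]

theorem eulerₗ_mul (f g : k[T;T⁻¹]) :
    eulerₗ k (f * g) = f * eulerₗ k g + g * eulerₗ k f := by
  induction f using LaurentPolynomial.induction_on' with
  | add p q hp hq => simp only [add_mul, map_add, hp, hq, mul_add]; abel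
  | C_mul_T n a =>
    induction g using LaurentPolynomial.induction_on' with
    | add p q hp hq => simp only [add_mul, map_add, hp, hq, mul_add]; abel
    | C_mul_T m b =>
      rw [show C a * T n * (C b * T m) = C (a * b) * T (n + m) by rw [map_mul, T_add]; ring,
        eulerₗ_C_mul_T, eulerₗ_C_mul_T, eulerₗ_C_mul_T, T_add]
      simp only [Int.cast_add, map_add, map_mul]
      ring

/-- The Euler derivation. -/
noncomputable def euler : Derivation k k[T;T⁻¹] k[T;T⁻¹] :=
  Derivation.mk' (eulerₗ k) (fun f g => by simp only [smul_eq_mul]; exact eulerₗ_mul k f g)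

@[simp] theorem euler_apply (f : k[T;T⁻¹]) : euler k f = eulerₗ k f := rfl

/-- `dt / t`. -/
noncomputable def ω : Ω[k[T;T⁻¹]⁄k] :=
  (T (-1) : k[T;T⁻¹]) • KaehlerDifferential.D k k[T;T⁻¹] (T 1)

theorem D_eq (f : k[T;T⁻¹]) : KaehlerDifferential.D k k[T;T⁻¹] f = euler k f • ω k := by
  let D := KaehlerDifferential.D k k[T;T⁻¹]
  have hT : ∀ n : ℤ, D (T n) = euler k (T n) • ω k := by
    have h1 : D (T 1) = euler k (T 1) • ω k := by
      have e : euler k (T 1) = T 1 := by
        have := eulerₗ_C_mul_T k 1 1; simpa using this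
      rw [e, ω, smul_smul, ← T_add]; simp [D]
    have hadd : ∀ m n : ℤ, D (T m) = euler k (T m) • ω k → D (T n) = euler k (T n) • ω k →
        D (T (m + n)) = euler k (T (m + n)) • ω k := fun m n hm hn => by
      rw [T_add, Derivation.leibniz, Derivation.leibniz, hm, hn, add_smul, smul_assoc, smul_assoc]
    have h0 : D (T 0) = euler k (T 0) • ω k := by simp
    have hneg : D (T (-1)) = euler k (T (-1)) • ω k := by
      have e : euler k (T (-1)) = -T (-1) := by
        have := eulerₗ_C_mul_T k (-1) 1; simpa using this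
      have h := congrArg D (show T (-1) * T 1 = (1 : k[T;T⁻¹]) by rw [← T_add]; simp)
      rw [Derivation.leibniz, Derivation.map_one_eq_zero] at h
      rw [e, ω, neg_smul, smul_smul]
      calc D (T (-1)) = (T (-1) : k[T;T⁻¹]) • ((T 1 : k[T;T⁻¹]) • D (T (-1))) := by rw [smul_smul, ← T_add]; simp
        _ = _ := by
          rw [eq_neg_of_add_eq_zero_right h, smul_neg, smul_smul]
    intro n
    induction n with
    | zero => exact h0
    | succ i ih => exact hadd _ _ ih h1
    | pred i ih => rw [sub_eq_add_neg]; exact hadd _ _ ih hneg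
  induction f using LaurentPolynomial.induction_on' with
  | add p q hp hq => rw [map_add, map_add, hp, hq, add_smul]
  | C_mul_T n a =>
    rw [← LaurentPolynomial.smul_eq_C_mul, Derivation.map_smul, Derivation.map_smul, smul_assoc]
    exact congrArg _ (hT n)

theorem lift_ω : (euler k).liftKaehlerDifferential (ω k) = 1 := by
  rw [ω, map_smul, Derivation.liftKaehlerDifferential_comp_D, euler_apply]
  have := eulerₗ_C_mul_T k 1 1
  simp only [map_one, one_mul, Int.cast_one] at this
  rw [this, smul_eq_mul, ← T_add]; simp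

theorem eq_smul_ω (x : Ω[k[T;T⁻¹]⁄k]) : x = (euler k).liftKaehlerDifferential x • ω k := by
  have hx : x ∈ Submodule.span k[T;T⁻¹] (Set.range (KaehlerDifferential.D k k[T;T⁻¹])) := by
    rw [KaehlerDifferential.span_range_derivation]; trivial
  induction hx using Submodule.span_induction with
  | mem y hy =>
    obtain ⟨f, rfl⟩ := hy
    rw [Derivation.liftKaehlerDifferential_comp_D]; exact D_eq k f
  | zero => simp
  | add a b _ _ ha hb => rw [map_add, add_smul, ← ha, ← hb]
  | smul a y _ hy => rw [map_smul, smul_eq_mul, mul_smul, ← hy]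

end Groth.Agent.DeRham.Laurent
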